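import Cfsg.Agent.Characters.Ito
import Cfsg.Agent.S0158

/-!
# Intertwining operators of an irreducible representation (helper596)

`ρ` an irreducible representation of the finite group `E`; for an automorphism `φ` of `E`
`W ρ φ = ∑ x, ρ (φ x) * ρ x⁻¹` satisfies `W φ * ρ y = ρ (φ y) * W φ`.  If the character of `ρ` vanishes on
`φ x * x⁻¹` unless `φ x = x`, then `tr (W φ) = dim * |Fix φ|` and `W φ * W φ⁻¹ = |E| |Fix φ|`.
-/

set_option autoImplicit false

namespace Cfsg.Agent.H596.Weil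

open Module Cfsg.Agent.Characters.Ito

universe u

section core

variable {E : Type u} [Group E] [Fintype E] {V : Type*} [AddCommGroup V] [Module ℂ V] [FiniteDimensional ℂ V]
  (ρ : Representation ℂ E V)

/-- the intertwiner -/
noncomputable def W (φ : MulAut E) : Module.End ℂ V := ∑ x : E, ρ (φ x) * ρ x⁻¹

/-- the number of fixed points -/
noncomputable def fx (φ : MulAut E) : ℕ := Nat.card {x : E // φ x = x}

/-- the condition on the automorphism -/
def Good (φ : MulAut E) : Prop := ∀ x : E, φ x ≠ x → ρ.character (φ x * x⁻¹) = 0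

theorem fx_pos (φ : MulAut E) : 0 < fx φ := by
  have : Nonempty {x : E // φ x = x} := ⟨⟨1, map_one φ⟩⟩
  exact Nat.card_pos

theorem fx_inv (φ : MulAut E) : fx φ⁻¹ = fx φ := by
  refine Nat.card_congr (Equiv.subtypeEquivRight fun x => ?_)
  rw [MulAut.inv_apply]
  constructor
  · intro h
    nth_rewrite 1 [← h]
    exact MulEquiv.apply_symm_apply φ x
  · intro h
    nth_rewrite 1 [← h]
    exact MulEquiv.symm_apply_apply φ x

theorem W_mul_rho (φ : MulAut E) (y : E) : W ρ φ * ρ y = ρ (φ y) * W ρ φ := by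
  rw [W, Finset.sum_mul, Finset.mul_sum]
  refine Fintype.sum_equiv (Equiv.mulLeft y⁻¹) _ _ fun x => ?_
  rw [Equiv.coe_mulLeft, mul_inv_rev, inv_inv, map_mul φ, map_mul ρ, map_mul ρ, ← mul_assoc, ← mul_assoc,
    map_inv φ, ← mul_assoc (ρ (φ y)), ← map_mul ρ (φ y), mul_inv_cancel, map_one, one_mul]

theorem W_conj (φ δ : MulAut E) (h : δ * φ = φ * δ) : W ρ δ * W ρ φ = W ρ φ * W ρ δ := by
  have h1 : W ρ δ * W ρ φ = ∑ x : E, ρ (δ (φ x)) * ρ (δ x)⁻¹ * W ρ δ := by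
    conv_lhs => rw [W.eq_def ρ φ]
    rw [Finset.mul_sum]
    refine Finset.sum_congr rfl fun x _ => ?_
    rw [← mul_assoc, W_mul_rho, mul_assoc, W_mul_rho, map_inv δ, ← mul_assoc]
  rw [h1, ← Finset.sum_mul]
  congr 1
  rw [W]
  refine Fintype.sum_equiv δ.toEquiv _ _ fun x => ?_
  have h2 : δ (φ x) = φ (δ x) := DFunLike.congr_fun h x
  rw [h2]
  rfl

theorem trace_W {φ : MulAut E} (h : Good ρ φ) : LinearMap.trace ℂ V (W ρ φ) = (finrank ℂ V : ℂ) * fx φ := by
  classical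
  have h1 : ∀ x : E, LinearMap.trace ℂ V (ρ (φ x) * ρ x⁻¹) = if φ x = x then (finrank ℂ V : ℂ) else 0 := by
    intro x
    rw [← map_mul]
    split_ifs with hx
    · rw [hx, mul_inv_cancel, map_one, LinearMap.trace_one]
    · exact h x hx
  rw [W, map_sum, Finset.sum_congr rfl fun x _ => h1 x, ← Finset.sum_filter, Finset.sum_const, nsmul_eq_mul,
    mul_comm, fx, Nat.card_eq_fintype_card, Fintype.card_subtype]

theorem W_mul_W_inv [ρ.IsIrreducible] {φ : MulAut E} (h : Good ρ φ) :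
    W ρ φ * W ρ φ⁻¹ = ((Fintype.card E : ℂ) * fx φ) • (1 : Module.End ℂ V) := by
  have h1 : W ρ φ * W ρ φ⁻¹ = ∑ x : E, ρ x * W ρ φ * ρ x⁻¹ := by
    conv_lhs => rw [W.eq_def ρ φ⁻¹]
    rw [Finset.mul_sum]
    refine Finset.sum_congr rfl fun x _ => ?_
    rw [← mul_assoc, W_mul_rho, MulAut.apply_inv_self]
  rw [h1, sum_conj, trace_W ρ h]
  have hn : (finrank ℂ V : ℂ) ≠ 0 := Nat.cast_ne_zero.2 (finrank_pos_of_irreducible ρ).ne'
  congr 1
  field_simp

theorem Good.inv {φ : MulAut E} (h : Good ρ φ) : Good ρ φ⁻¹ := by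
  intro x hx
  have h1 : φ (φ⁻¹ x) ≠ φ⁻¹ x := by
    rw [MulAut.apply_inv_self]
    exact fun h' => hx h'.symm
  have h2 := h _ h1
  rw [MulAut.apply_inv_self] at h2
  -- `ρ.character (x * (φ⁻¹ x)⁻¹) = 0`; the inverse element
  have h3 : ρ.character ((x * (φ⁻¹ x)⁻¹)⁻¹) = 0 := by
    rw [S0158.char_inv, h2, map_zero]
  rw [mul_inv_rev, inv_inv] at h3
  exact h3

theorem W_inv_mul_W [ρ.IsIrreducible] {φ : MulAut E} (h : Good ρ φ) :
    W ρ φ⁻¹ * W ρ φ = ((Fintype.card E : ℂ) * fx φ) • (1 : Module.End ℂ V) := by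
  have h1 := W_mul_W_inv ρ h.inv
  rwa [inv_inv, fx_inv] at h1

theorem sc_ne (φ : MulAut E) : ((Fintype.card E : ℂ) * fx φ) ≠ 0 :=
  mul_ne_zero (Nat.cast_ne_zero.2 Fintype.card_ne_zero) (Nat.cast_ne_zero.2 (fx_pos φ).ne')

/-- two intertwiners for the same automorphism -/
theorem eq_smul_W [ρ.IsIrreducible] {φ : MulAut E} (h : Good ρ φ) {A : Module.End ℂ V}
    (hA : ∀ y, A * ρ y = ρ (φ y) * A) : ∃ c : ℂ, A = c • W ρ φ := by
  have h1 := schur ρ (A * W ρ φ⁻¹) (fun y => by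
    rw [mul_assoc A, W_mul_rho, ← mul_assoc A, hA, MulAut.apply_inv_self, mul_assoc])
  have h2 : A * (W ρ φ⁻¹ * W ρ φ) = ((Fintype.card E : ℂ) * fx φ) • A := by
    rw [W_inv_mul_W ρ h, mul_smul_comm, mul_one]
  rw [← mul_assoc, h1, smul_mul_assoc, one_mul] at h2
  refine ⟨((Fintype.card E : ℂ) * fx φ)⁻¹ * (LinearMap.trace ℂ V (A * W ρ φ⁻¹) / (finrank ℂ V : ℂ)), ?_⟩
  rw [mul_smul, h2, smul_smul, inv_mul_cancel₀ (sc_ne φ), one_smul]

theorem isUnit_W [ρ.IsIrreducible] {φ : MulAut E} (h : Good ρ φ) : IsUnit (W ρ φ) := by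
  refine ⟨⟨W ρ φ, ((Fintype.card E : ℂ) * fx φ)⁻¹ • W ρ φ⁻¹, ?_, ?_⟩, rfl⟩
  · rw [mul_smul_comm, W_mul_W_inv ρ h, smul_smul, inv_mul_cancel₀ (sc_ne φ), one_smul]
  · rw [smul_mul_assoc, W_inv_mul_W ρ h, smul_smul, inv_mul_cancel₀ (sc_ne φ), one_smul]

theorem exists_cocycle [ρ.IsIrreducible] {φ ψ : MulAut E} (h1 : Good ρ φ) (h2 : Good ρ ψ) (h3 : Good ρ (φ * ψ)) :
    ∃ c : ℂ, c ≠ 0 ∧ W ρ φ * W ρ ψ = c • W ρ (φ * ψ) := by
  obtain ⟨c, hc⟩ := eq_smul_W ρ h3 (A := W ρ φ * W ρ ψ) (fun y => by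
    rw [mul_assoc, W_mul_rho, ← mul_assoc, W_mul_rho, mul_assoc]
    rfl)
  refine ⟨c, ?_, hc⟩
  rintro rfl
  rw [zero_smul] at hc
  have h4 := (isUnit_W ρ h1).mul (isUnit_W ρ h2)
  rw [hc] at h4
  have hn := finrank_pos_of_irreducible ρ
  have : Nontrivial V := finrank_pos_iff.1 hn
  exact not_isUnit_zero h4

end core

section normalize

variable {G : Type*} [Group G] {V : Type*} [AddCommGroup V] [Module ℂ V] [FiniteDimensional ℂ V]

/-- **Normalisation of a projective representation with two invariant subspaces of consecutive dimensions.** -/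
theorem exists_norm (w : G → Module.End ℂ V) (hu : ∀ g, IsUnit (w g))
    (hw : ∀ g h, ∃ c : ℂ, c ≠ 0 ∧ w g * w h = c • w (g * h)) (A B : Submodule ℂ V)
    (hA : ∀ g, ∀ x ∈ A, w g x ∈ A) (hB : ∀ g, ∀ x ∈ B, w g x ∈ B) (hAB : finrank ℂ B = finrank ℂ A + 1) :
    ∃ r : G → ℂ, (∀ g, r g ≠ 0) ∧ ∀ g h, (r g • w g) * (r h • w h) = r (g * h) • w (g * h) := by
  have hres : ∀ (C : Submodule ℂ V) (hC : ∀ g, ∀ x ∈ C, w g x ∈ C),
      ∃ d : G → ℂ, (∀ g, d g ≠ 0) ∧ ∀ (g h : G) (c : ℂ), w g * w h = c • w (g * h) →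
        d g * d h = c ^ finrank ℂ C * d (g * h) := by
    intro C hC
    refine ⟨fun g => LinearMap.det ((w g).restrict (hC g)), fun g => ?_, fun g h c hc => ?_⟩
    · have h1 : Function.Injective ((w g).restrict (hC g)) := by
        intro x y hxy
        apply Subtype.ext
        have h2 : w g x = w g y := congrArg Subtype.val hxy
        exact ((Module.End.isUnit_iff _).1 (hu g)).1 h2
      have h2 : IsUnit ((w g).restrict (hC g)) := by
        rw [Module.End.isUnit_iff]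
        exact ⟨h1, LinearMap.injective_iff_surjective.1 h1⟩
      exact ((LinearMap.isUnit_iff_isUnit_det _).1 h2).ne_zero
    · show LinearMap.det _ * LinearMap.det _ = _
      rw [← LinearMap.det_comp, ← LinearMap.det_smul]
      congr 1
      ext x
      have h2 := DFunLike.congr_fun hc (x : V)
      exact h2
  obtain ⟨a, ha0, ha⟩ := hres A hA
  obtain ⟨b, hb0, hb⟩ := hres B hB
  refine ⟨fun g => a g / b g, fun g => div_ne_zero (ha0 g) (hb0 g), fun g h => ?_⟩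
  obtain ⟨c, hc0, hc⟩ := hw g h
  have h1 := ha g h c hc
  have h2 := hb g h c hc
  rw [smul_mul_smul_comm, hc, smul_smul]
  congr 1
  rw [hAB, pow_succ] at h2
  have hb1 := hb0 g
  have hb2 := hb0 h
  have hb3 := hb0 (g * h)
  have hck : c ^ finrank ℂ A ≠ 0 := pow_ne_zero _ hc0
  field_simp
  have h3 : a g * a h * b (g * h) * (c ^ finrank ℂ A * c) = c ^ finrank ℂ A * a (g * h) * (c ^ finrank ℂ A * c * b (g * h)) := by
    rw [h1]; ring
  rw [← h2] at h3
  have h4 : c ^ finrank ℂ A * (a g * a h * b (g * h) * c) = c ^ finrank ℂ A * (a (g * h) * (b g * b h)) := by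
    linear_combination h3
  have h5 := mul_left_cancel₀ hck h4
  linear_combination h5

end normalize

end Cfsg.Agent.H596.Weil
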