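import Cfsg.Agent.H596.Weil.Irr
import Cfsg.Agent.CharDeep.PowerDegrees

/-!
# The Heisenberg group of a biadditive form (helper596)
-/

set_option autoImplicit false

open scoped ComplexConjugate

namespace Cfsg.Agent.H596.Weil

open Module Cfsg Cfsg.Agent.Characters.Ito Cfsg.Agent.Characters.Core

universe u

/-- the Heisenberg group -/
@[ext] structure Hs {V Z : Type u} [AddCommGroup V] [AddCommGroup Z] (h : V →+ V →+ Z) where
  v : V
  z : Z

namespace Hs

variable {V Z : Type u} [AddCommGroup V] [AddCommGroup Z] {h : V →+ V →+ Z}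

instance : Mul (Hs h) := ⟨fun x y => ⟨x.v + y.v, x.z + y.z + h x.v y.v⟩⟩
instance : One (Hs h) := ⟨⟨0, 0⟩⟩
instance : Inv (Hs h) := ⟨fun x => ⟨-x.v, -x.z + h x.v x.v⟩⟩

@[simp] theorem mul_v (x y : Hs h) : (x * y).v = x.v + y.v := rfl
@[simp] theorem mul_z (x y : Hs h) : (x * y).z = x.z + y.z + h x.v y.v := rfl
@[simp] theorem one_v : (1 : Hs h).v = 0 := rfl
@[simp] theorem one_z : (1 : Hs h).z = 0 := rfl
@[simp] theorem inv_v (x : Hs h) : (x⁻¹).v = -x.v := rfl
@[simp] theorem inv_z (x : Hs h) : (x⁻¹).z = -x.z + h x.v x.v := rfl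

instance : Group (Hs h) := Group.ofLeftAxioms
  (fun a b c => by
    ext
    · simp [add_assoc]
    · simp only [mul_z, mul_v, map_add, AddMonoidHom.add_apply]
      abel)
  (fun a => by
    ext
    · simp
    · simp)
  (fun a => by
    ext
    · simp
    · simp only [mul_z, inv_v, inv_z, map_neg, AddMonoidHom.neg_apply, one_z]
      abel)

/-- the underlying pair -/
def equiv (h : V →+ V →+ Z) : Hs h ≃ V × Z where
  toFun x := (x.v, x.z)
  invFun x := ⟨x.1, x.2⟩
  left_inv _ := rfl
  right_inv _ := rfl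

noncomputable instance [Fintype V] [Fintype Z] : Fintype (Hs h) := Fintype.ofEquiv _ (equiv h).symm

theorem card [Fintype V] [Fintype Z] : Fintype.card (Hs h) = Fintype.card V * Fintype.card Z := by
  rw [Fintype.card_congr (equiv h), Fintype.card_prod]

/-- the central subgroup -/
def zin (h : V →+ V →+ Z) : Multiplicative Z →* Hs h where
  toFun z := ⟨0, z.toAdd⟩
  map_one' := rfl
  map_mul' a b := by
    ext
    · simp
    · simp

@[simp] theorem zin_v (a : Multiplicative Z) : (zin h a).v = 0 := rfl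
@[simp] theorem zin_z (a : Multiplicative Z) : (zin h a).z = a.toAdd := rfl

theorem zin_comm (a : Multiplicative Z) (x : Hs h) : zin h a * x = x * zin h a := by
  ext
  · simp
  · simp [add_comm]

theorem zin_inj : Function.Injective (zin h) := fun a b hab => by
  have := congrArg Hs.z hab
  exact this

/-- conjugation -/
theorem conj_eq (x : Hs h) (w : V) : (⟨w, 0⟩ : Hs h) * x * (⟨w, 0⟩ : Hs h)⁻¹ =
    zin h (Multiplicative.ofAdd (h w x.v - h x.v w)) * x := by
  ext
  · simp only [mul_v, inv_v, zin_v]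
    abel
  · simp only [mul_z, mul_v, inv_v, inv_z, map_neg, map_add, AddMonoidHom.add_apply, zin_z, zin_v,
      toAdd_ofAdd, map_zero, AddMonoidHom.zero_apply]
    abel

/-- automorphisms from a group preserving the form -/
def aut {H : Type*} [Group H] [DistribMulAction H V] (h : V →+ V →+ Z)
    (hh : ∀ (g : H) (v w : V), h (g • v) (g • w) = h v w) : H →* MulAut (Hs h) where
  toFun g :=
    { toFun := fun x => ⟨g • x.v, x.z⟩
      invFun := fun x => ⟨g⁻¹ • x.v, x.z⟩
      left_inv := fun x => by ext <;> simp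
      right_inv := fun x => by ext <;> simp
      map_mul' := fun x y => by
        ext
        · simp
        · simp [hh] }
  map_one' := by ext <;> simp
  map_mul' g k := by ext <;> simp [mul_smul]

theorem aut_apply {H : Type*} [Group H] [DistribMulAction H V]
    (hh : ∀ (g : H) (v w : V), h (g • v) (g • w) = h v w) (g : H) (x : Hs h) :
    aut h hh g x = ⟨g • x.v, x.z⟩ := rfl

end Hs

section rho

variable {V Z : Type u} [AddCommGroup V] [AddCommGroup Z] (h : V →+ V →+ Z) [Fintype V] [Fintype Z]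

/-- **The representation of the Heisenberg group with given central character.** -/
theorem exists_rho (l : AddChar Z ℂ) (hl : ∀ v : V, v ≠ 0 → ∃ w, l (h w v - h v w) ≠ 1) :
    ∃ (n : ℕ) (ρ : Representation ℂ (Hs h) (Fin n → ℂ)), ρ.IsIrreducible ∧
      (∀ x : Hs h, x.v ≠ 0 → ρ.character x = 0) ∧ n ^ 2 = Fintype.card V := by
  classical
  -- the linear character of the centre
  set N : Subgroup (Hs h) := (Hs.zin h).range with hN
  have e : Multiplicative Z ≃* N := MonoidHom.ofInjective Hs.zin_inj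
  have he : ∀ a, ((MonoidHom.ofInjective (Hs.zin_inj (h := h)) a : N) : Hs h) = Hs.zin h a := fun a => rfl
  let θ : N → ℂ := fun n => l (n : Hs h).z
  have hθmul : ∀ a b : N, θ (a * b) = θ a * θ b := by
    rintro ⟨_, a, rfl⟩ ⟨_, b, rfl⟩
    show l ((Hs.zin h a) * (Hs.zin h b)).z = l _ * l _
    rw [← AddChar.map_add_eq_mul]
    simp
  have hθone : θ 1 = 1 := by
    show l (1 : Hs h).z = 1
    rw [Hs.one_z, AddChar.map_zero_eq_one]
  let θr : Representation ℂ N ℂ :=
    { toFun := fun n => θ n • (1 : Module.End ℂ ℂ)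
      map_one' := by rw [hθone, one_smul]
      map_mul' := fun a b => by rw [hθmul, smul_mul_smul_comm, mul_one] }
  have hθc : θr.character = θ := by
    funext n
    show LinearMap.trace ℂ ℂ (θ n • (1 : Module.End ℂ ℂ)) = θ n
    rw [map_smul, LinearMap.trace_one, finrank_self, Nat.cast_one, smul_eq_mul, mul_one]
  have hθi : IsIrrCharacter N θ := by
    rw [← hθc]
    exact isIrrCharacter_of_rep θr (isIrr_of_finrank_one (finrank_self ℂ) θr)
  obtain ⟨χ, hχ, hin⟩ := CharDeep.PowerDegrees.exists_irr_over N hθi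
  obtain ⟨n, ρ, hρ, hρχ⟩ := hχ
  have := hρ
  -- the centre acts by scalars
  have hsc : ∀ a : N, ∃ c : ℂ, ρ a = c • (1 : Module.End ℂ (Fin n → ℂ)) := by
    rintro ⟨_, a, rfl⟩
    refine ⟨_, schur ρ _ fun y => ?_⟩
    rw [← map_mul, ← map_mul, Hs.zin_comm]
  choose c hc using hsc
  have hn : 0 < finrank ℂ (Fin n → ℂ) := finrank_pos_of_irreducible ρ
  rw [finrank_fin_fun] at hn
  have hnC : (n : ℂ) ≠ 0 := Nat.cast_ne_zero.2 hn.ne'
  have hnt : Nontrivial (Fin n → ℂ) := finrank_pos_iff (R := ℂ).1 (by rw [finrank_fin_fun]; exact hn)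
  have hcmul : ∀ a b, c (a * b) = c a * c b := by
    intro a b
    have h1 : ρ ((a * b : N) : Hs h) = ρ a * ρ b := by rw [Subgroup.coe_mul, map_mul]
    rw [hc, hc, hc, smul_mul_smul_comm, mul_one] at h1
    exact smul_left_injective ℂ (one_ne_zero (α := Module.End ℂ (Fin n → ℂ))) h1
  have hcone : c 1 = 1 := by
    have h1 := hc 1
    rw [OneMemClass.coe_one, map_one] at h1
    exact (smul_left_injective ℂ (one_ne_zero (α := Module.End ℂ (Fin n → ℂ))) (by
      show (1 : ℂ) • (1 : Module.End ℂ (Fin n → ℂ)) = c 1 • 1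
      rw [one_smul]; exact h1)).symm
  let cr : Representation ℂ N ℂ :=
    { toFun := fun n => c n • (1 : Module.End ℂ ℂ)
      map_one' := by rw [hcone, one_smul]
      map_mul' := fun a b => by rw [hcmul, smul_mul_smul_comm, mul_one] }
  have hcc : cr.character = c := by
    funext n
    show LinearMap.trace ℂ ℂ (c n • (1 : Module.End ℂ ℂ)) = c n
    rw [map_smul, LinearMap.trace_one, finrank_self, Nat.cast_one, smul_eq_mul, mul_one]
  have hci : IsIrrCharacter N c := by
    rw [← hcc]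
    exact isIrrCharacter_of_rep cr (isIrr_of_finrank_one (finrank_self ℂ) cr)
  have hχc : (fun a : N => χ a) = (n : ℂ) • c := by
    funext a
    rw [← hρχ]
    show LinearMap.trace ℂ _ (ρ a) = _
    rw [hc, map_smul, LinearMap.trace_one, finrank_fin_fun, smul_eq_mul, Pi.smul_apply, smul_eq_mul, mul_comm]
  have hcθ : c = θ := by
    by_contra hne
    apply hin
    rw [hχc, classInner_smul_left, classInner_irr_ne hci hθi hne, mul_zero]
  have hmul : ∀ (a : N) (x : Hs h), ρ.character (a * x) = θ a * ρ.character x := by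
    intro a x
    show LinearMap.trace ℂ _ (ρ (a * x)) = _ * LinearMap.trace ℂ _ (ρ x)
    rw [map_mul, hc, smul_mul_assoc, one_mul, map_smul, smul_eq_mul, hcθ]
  have hvan : ∀ x : Hs h, x.v ≠ 0 → ρ.character x = 0 := by
    intro x hx
    obtain ⟨w, hw⟩ := hl x.v hx
    have h1 : ρ.character ((⟨w, 0⟩ : Hs h) * x * (⟨w, 0⟩ : Hs h)⁻¹) = ρ.character x := ρ.char_conj x _
    rw [Hs.conj_eq] at h1
    have h2 := hmul ⟨Hs.zin h (Multiplicative.ofAdd (h w x.v - h x.v w)), ⟨_, rfl⟩⟩ x
    rw [h1] at h2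
    have h3 : θ ⟨Hs.zin h (Multiplicative.ofAdd (h w x.v - h x.v w)), ⟨_, rfl⟩⟩ = l (h w x.v - h x.v w) := rfl
    rw [h3] at h2
    by_contra h4
    apply hw
    have h5 : (l (h w x.v - h x.v w) - 1) * ρ.character x = 0 := by
      rw [sub_mul, one_mul, ← h2, sub_self]
    exact sub_eq_zero.1 ((mul_eq_zero.1 h5).resolve_right h4)
  refine ⟨n, ρ, hρ, hvan, ?_⟩
  -- the norm
  have hnorm := classInner_irr_self (G := Hs h) ⟨n, ρ, hρ, rfl⟩
  rw [classInner_def] at hnorm
  have hZ : ∀ x : Hs h, x.v = 0 → ρ.character x * conj (ρ.character x) = (n : ℂ) ^ 2 := by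
    intro x hx
    have hxN : x ∈ N := ⟨Multiplicative.ofAdd x.z, by ext <;> simp [hx]⟩
    have h1 : ρ.character x = θ ⟨x, hxN⟩ * n := by
      have h2 := hmul ⟨x, hxN⟩ 1
      rw [mul_one] at h2
      rw [h2, ρ.char_one, finrank_fin_fun]
    have h3 : θ ⟨x, hxN⟩ * conj (θ ⟨x, hxN⟩) = 1 := by
      have h4 : ‖θ ⟨x, hxN⟩‖ = 1 := l.norm_apply x.z
      rw [Complex.mul_conj, Complex.normSq_eq_norm_sq, h4]
      simp
    rw [h1, map_mul, Complex.conj_natCast]
    linear_combination (n : ℂ) ^ 2 * h3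
  have hsum : ∑ x : Hs h, ρ.character x * conj (ρ.character x) = (Fintype.card Z : ℂ) * (n : ℂ) ^ 2 := by
    have h1 : ∀ x : Hs h, ρ.character x * conj (ρ.character x) = if x.v = 0 then (n : ℂ) ^ 2 else 0 := by
      intro x
      split_ifs with hx
      · exact hZ x hx
      · rw [hvan x hx, zero_mul]
    rw [Finset.sum_congr rfl fun x _ => h1 x]
    rw [← (Hs.equiv h).symm.sum_comp]
    rw [Fintype.sum_prod_type]
    show ∑ v : V, ∑ z : Z, (if v = 0 then (n : ℂ) ^ 2 else 0) = _
    simp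
  rw [hsum, Nat.card_eq_fintype_card, Hs.card] at hnorm
  have hZ0 : (Fintype.card Z : ℂ) ≠ 0 := Nat.cast_ne_zero.2 Fintype.card_ne_zero
  have hV0 : (Fintype.card V : ℂ) ≠ 0 := Nat.cast_ne_zero.2 Fintype.card_ne_zero
  push_cast at hnorm
  field_simp at hnorm
  exact_mod_cast hnorm

variable {h}

/-- automorphisms preserving the form are good -/
theorem good_aut {n : ℕ} {ρ : Representation ℂ (Hs h) (Fin n → ℂ)} (hv : ∀ x : Hs h, x.v ≠ 0 → ρ.character x = 0)
    {H : Type*} [Group H] [DistribMulAction H V]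
    (hh : ∀ (g : H) (v w : V), h (g • v) (g • w) = h v w) (g : H) : Good ρ (Hs.aut h hh g) := by
  intro x hx
  apply hv
  intro h0
  apply hx
  rw [Hs.aut_apply] at h0 ⊢
  have h1 : g • x.v + -x.v = 0 := h0
  ext
  · exact (eq_neg_of_add_eq_zero_left h1).trans (neg_neg _)
  · rfl

omit [Fintype V] [Fintype Z] in
theorem fx_aut [Finite V] [Finite Z] {H : Type*} [Group H] [DistribMulAction H V]
    (hh : ∀ (g : H) (v w : V), h (g • v) (g • w) = h v w) (g : H) :
    fx (Hs.aut h hh g) = Nat.card {v : V // g • v = v} * Nat.card Z := by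
  rw [fx, ← Nat.card_prod]
  exact Nat.card_congr
    { toFun := fun x => (⟨x.1.v, congrArg Hs.v x.2⟩, x.1.z)
      invFun := fun x => ⟨⟨x.1.1, x.2⟩, by
        rw [Hs.aut_apply]
        ext
        · exact x.1.2
        · rfl⟩
      left_inv := fun x => rfl
      right_inv := fun x => rfl }

/-- the product of the traces at `g` and `g⁻¹` is the number of fixed points -/
theorem trace_mul_trace_eq {n : ℕ} {ρ : Representation ℂ (Hs h) (Fin n → ℂ)} [ρ.IsIrreducible]
    (hv : ∀ x : Hs h, x.v ≠ 0 → ρ.character x = 0) (hn : n ^ 2 = Fintype.card V)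
    {H : Type*} [Group H] [DistribMulAction H V]
    (hh : ∀ (g : H) (v w : V), h (g • v) (g • w) = h v w) {ω : Representation ℂ H (Fin n → ℂ)}
    (hω : ∀ a, ∃ c : ℂ, ω a = c • W ρ (Hs.aut h hh a)) (a : H) :
    LinearMap.trace ℂ _ (ω a) * LinearMap.trace ℂ _ (ω a⁻¹) = (Nat.card {v : V // a • v = v} : ℂ) := by
  have h1 := trace_mul_trace ρ (Hs.aut h hh) (fun a => good_aut hv hh a) hω a
  rw [fx_aut, Hs.card, finrank_fin_fun, Nat.card_eq_fintype_card (α := Z)] at h1
  have h2 : (n : ℂ) ^ 2 = Fintype.card V := by exact_mod_cast hn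
  rw [h2] at h1
  have hZ0 : (Fintype.card Z : ℂ) ≠ 0 := Nat.cast_ne_zero.2 Fintype.card_ne_zero
  have hV0 : (Fintype.card V : ℂ) ≠ 0 := Nat.cast_ne_zero.2 Fintype.card_ne_zero
  push_cast at h1
  apply mul_left_cancel₀ (mul_ne_zero hV0 hZ0)
  linear_combination h1

end rho

end Cfsg.Agent.H596.Weil
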