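import Cfsg.Agent.H596.Weil.Rep

/-!
# Irreducibility of the weight parts of the Weil representation (helper596)
-/

set_option autoImplicit false

open scoped ComplexConjugate

namespace Cfsg.Agent.H596.Weil

open Module Cfsg Cfsg.Agent.Characters.Ito Cfsg.Agent.Characters.Core

universe u

theorem norm_ne_zero {G : Type u} [Group G] [Fintype G] {α : G → ℂ} (h0 : α 1 ≠ 0) : classInner α α ≠ 0 := by
  intro h
  exact h0 (congrFun (classInner_self_eq_zero h) 1)

variable {V : Type*} [AddCommGroup V] [Module ℂ V] [FiniteDimensional ℂ V]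
  {A : Type*} [CommGroup A] [Fintype A] {G : Type u} [Group G] [Fintype G]

/-- **Irreducibility.** -/
theorem isIrr_wt (τ : Representation ℂ A V) (ω : Representation ℂ G V)
    (hc : ∀ g a, ω g * τ a = τ a * ω g) (hpos : ∀ l, 0 < finrank ℂ (wsp τ l)) {N : ℕ} (hN : N ≤ Fintype.card A)
    (hin : classInner (fun g => LinearMap.trace ℂ V (ω g)) (fun g => LinearMap.trace ℂ V (ω g)) = N)
    (l : AddChar (Additive A) ℂ) : IsIrrCharacter G (fun g => LinearMap.trace ℂ V (ω g * wt τ l)) := by
  classical
  set χ : AddChar (Additive A) ℂ → G → ℂ := fun l g => LinearMap.trace ℂ V (ω g * wt τ l) with hχ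
  have hch : ∀ l, IsCharacter G (χ l) := fun l => isCharacter_wt τ ω hc l
  have hone : ∀ l, χ l 1 = finrank ℂ (wsp τ l) := by
    intro l
    show LinearMap.trace ℂ V (ω 1 * wt τ l) = _
    rw [map_one, one_mul, trace_wt]
  have hne : ∀ l, χ l 1 ≠ 0 := fun l => by
    rw [hone]
    exact_mod_cast (hpos l).ne'
  have hsum : (fun g => LinearMap.trace ℂ V (ω g)) = ∑ l, χ l := by
    funext g
    rw [Finset.sum_apply]
    show _ = ∑ l, LinearMap.trace ℂ V (ω g * wt τ l)
    rw [← map_sum, ← Finset.mul_sum, sum_wt, mul_one]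
  have hnat : ∀ l m, ∃ n : ℕ, classInner (χ l) (χ m) = n := fun l m => classInner_isNat (hch l) (hch m)
  choose c hcn using hnat
  have hc1 : ∀ l, 1 ≤ c l l := by
    intro l
    by_contra hcon
    have h0 : c l l = 0 := by omega
    exact norm_ne_zero (hne l) (by rw [hcn, h0, Nat.cast_zero])
  have h1 : classInner (∑ l, χ l) (∑ l, χ l) = ((∑ l, ∑ m, c l m : ℕ) : ℂ) := by
    rw [classInner_def]
    push_cast
    simp_rw [← hcn, classInner_def]
    simp_rw [Finset.sum_apply, map_sum, Finset.sum_mul_sum]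
    rw [Finset.sum_comm, Finset.mul_sum]
    refine Finset.sum_congr rfl fun l _ => ?_
    rw [Finset.sum_comm, Finset.mul_sum]
  rw [hsum, h1] at hin
  have h2 : ∑ l, ∑ m, c l m = N := by exact_mod_cast hin
  have h3 : ∑ l, c l l ≤ ∑ l, ∑ m, c l m :=
    Finset.sum_le_sum fun l _ => Finset.single_le_sum (f := fun m => c l m) (fun _ _ => Nat.zero_le _) (Finset.mem_univ l)
  have h4 : c l l + (Fintype.card A - 1) ≤ ∑ l, c l l := by
    rw [← Finset.add_sum_erase Finset.univ (fun l => c l l) (Finset.mem_univ l)]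
    apply Nat.add_le_add_left
    have h5 : (Finset.univ.erase l).card • 1 ≤ ∑ x ∈ Finset.univ.erase l, c x x :=
      Finset.card_nsmul_le_sum _ _ _ fun x _ => hc1 x
    rw [Finset.card_erase_of_mem (Finset.mem_univ _), Finset.card_univ, card_addChar, smul_eq_mul, mul_one] at h5
    exact h5
  have h5 : 1 ≤ Fintype.card A := Fintype.card_pos
  have h6 : c l l = 1 := by
    have := hc1 l
    omega
  apply isIrr_of_classInner_self (hch l)
  rw [hcn, h6, Nat.cast_one]

end Cfsg.Agent.H596.Weil
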