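import Cfsg.Agent.H596.Weil.Core

/-!
# Multiplicities (helper596)

`A` abelian of order `q + 1`, `τ` a representation of degree `q ^ 3` with `tr (τ a) * tr (τ a⁻¹) = 1` for `a ≠ 1`:
one weight space has dimension `q ^ 2 - q`, all others have dimension `q ^ 2 - q + 1`.
-/

set_option autoImplicit false

namespace Cfsg.Agent.H596.Weil

open Module Cfsg.Agent.Characters.Ito

variable {A : Type*} [CommGroup A] [Fintype A] {V : Type*} [AddCommGroup V] [Module ℂ V] [FiniteDimensional ℂ V]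
  (τ : Representation ℂ A V)

/-- the weight space -/
noncomputable def wsp (l : AddChar (Additive A) ℂ) : Submodule ℂ V := LinearMap.range (wt τ l)

theorem wt_idem (l : AddChar (Additive A) ℂ) : wt τ l * wt τ l = wt τ l := by
  classical
  rw [wt_mul_wt, if_pos rfl]

theorem trace_wt (l : AddChar (Additive A) ℂ) : LinearMap.trace ℂ V (wt τ l) = (finrank ℂ (wsp τ l) : ℂ) := by
  have h : LinearMap.IsProj (wsp τ l) (wt τ l) := by
    refine ⟨fun x => ⟨x, rfl⟩, ?_⟩
    rintro _ ⟨x, rfl⟩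
    exact DFunLike.congr_fun (wt_idem τ l) x
  exact h.trace

theorem sum_mul_finrank (b : A) : ∑ l : AddChar (Additive A) ℂ, l (Additive.ofMul b) * (finrank ℂ (wsp τ l) : ℂ) =
    LinearMap.trace ℂ V (τ b) := by
  rw [← sum_smul_wt τ b, map_sum]
  refine Finset.sum_congr rfl fun l _ => ?_
  rw [map_smul, trace_wt, smul_eq_mul]

theorem sum_finrank : ∑ l : AddChar (Additive A) ℂ, finrank ℂ (wsp τ l) = finrank ℂ V := by
  have h := sum_mul_finrank τ 1
  rw [map_one τ, LinearMap.trace_one] at h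
  have h2 : ∀ l : AddChar (Additive A) ℂ, l (Additive.ofMul (1 : A)) = 1 := fun l => by
    rw [ofMul_one, AddChar.map_zero_eq_one]
  simp only [h2, one_mul] at h
  exact_mod_cast h

theorem sum_sq : (Fintype.card A : ℂ) * ∑ l : AddChar (Additive A) ℂ, (finrank ℂ (wsp τ l) : ℂ) ^ 2 =
    ∑ a : A, LinearMap.trace ℂ V (τ a) * LinearMap.trace ℂ V (τ a⁻¹) := by
  classical
  have h1 : ∀ a : A, LinearMap.trace ℂ V (τ a) * LinearMap.trace ℂ V (τ a⁻¹) =
      ∑ l : AddChar (Additive A) ℂ, ∑ m : AddChar (Additive A) ℂ,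
        ((finrank ℂ (wsp τ l) : ℂ) * finrank ℂ (wsp τ m)) * (l - m) (Additive.ofMul a) := by
    intro a
    rw [← sum_mul_finrank τ a, ← sum_mul_finrank τ a⁻¹, Finset.sum_mul_sum]
    refine Finset.sum_congr rfl fun l _ => Finset.sum_congr rfl fun m _ => ?_
    rw [AddChar.sub_apply', ofMul_inv, AddChar.map_neg_eq_inv]
    ring
  have h2 : ∀ l : AddChar (Additive A) ℂ, ∑ a : A, l (Additive.ofMul a) = if l = 0 then (Fintype.card A : ℂ) else 0 := by
    intro l
    have h3 := AddChar.sum_eq_ite l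
    have h4 : ∑ a : A, l (Additive.ofMul a) = ∑ a : Additive A, l a :=
      Fintype.sum_equiv Additive.ofMul _ _ fun a => rfl
    rw [h4, h3]
    have h5 : Fintype.card (Additive A) = Fintype.card A := Fintype.card_congr Additive.toMul
    rw [h5]
  rw [Finset.sum_congr rfl fun a _ => h1 a, Finset.sum_comm, Finset.mul_sum]
  refine Finset.sum_congr rfl fun l _ => ?_
  rw [Finset.sum_comm]
  have h3 : ∀ m : AddChar (Additive A) ℂ, ∑ a : A, ((finrank ℂ (wsp τ l) : ℂ) * finrank ℂ (wsp τ m)) *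
      (l - m) (Additive.ofMul a) = if m = l then (finrank ℂ (wsp τ l) : ℂ) ^ 2 * Fintype.card A else 0 := by
    intro m
    rw [← Finset.mul_sum, h2]
    by_cases h : m = l
    · subst h
      rw [sub_self, if_pos rfl, if_pos rfl]
      ring
    · rw [if_neg h, if_neg (fun h' => h (sub_eq_zero.1 h').symm), mul_zero]
  rw [Finset.sum_congr rfl fun m _ => h3 m, Finset.sum_ite_eq' Finset.univ l, if_pos (Finset.mem_univ _)]
  ring

theorem card_addChar : Fintype.card (AddChar (Additive A) ℂ) = Fintype.card A := by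
  rw [AddChar.card_eq]
  exact Fintype.card_congr Additive.toMul

/-- **The dimensions of the weight spaces.** -/
theorem exists_dims {q : ℕ} (hA : Fintype.card A = q + 1) (hV : finrank ℂ V = q ^ 3)
    (htr : ∀ a : A, a ≠ 1 → LinearMap.trace ℂ V (τ a) * LinearMap.trace ℂ V (τ a⁻¹) = 1) :
    ∃ l₀ : AddChar (Additive A) ℂ, finrank ℂ (wsp τ l₀) + q = q ^ 2 ∧
      ∀ l, l ≠ l₀ → finrank ℂ (wsp τ l) + q = q ^ 2 + 1 := by
  classical
  have h1 := sum_finrank τ
  have h2 := sum_sq τ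
  have h3 : ∑ a : A, LinearMap.trace ℂ V (τ a) * LinearMap.trace ℂ V (τ a⁻¹) = (q : ℂ) ^ 6 + q := by
    rw [← Finset.add_sum_erase Finset.univ _ (Finset.mem_univ (1 : A)), Finset.sum_congr rfl (fun a ha =>
      htr a (Finset.ne_of_mem_erase ha)), Finset.sum_const, Finset.card_erase_of_mem (Finset.mem_univ _),
      Finset.card_univ, hA, inv_one, map_one, LinearMap.trace_one, hV]
    simp
    ring
  rw [h3, hA] at h2
  set M : AddChar (Additive A) ℂ → ℤ := fun l => (finrank ℂ (wsp τ l) : ℤ) with hM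
  have h4 : ((q : ℤ) + 1) * ∑ l, M l ^ 2 = (q : ℤ) ^ 6 + q := by
    have : (((q : ℤ) + 1 : ℤ) : ℂ) * ((∑ l, M l ^ 2 : ℤ) : ℂ) = (((q : ℤ) ^ 6 + q : ℤ) : ℂ) := by
      push_cast [hM]
      push_cast at h2
      exact h2
    exact_mod_cast this
  have h5 : ∑ l, M l = (q : ℤ) ^ 3 := by
    rw [hM]
    have := congrArg (Nat.cast : ℕ → ℤ) h1
    rw [hV] at this
    push_cast at this
    exact this
  have hcard : ∑ _l : AddChar (Additive A) ℂ, (1 : ℤ) = q + 1 := by
    rw [Finset.sum_const, Finset.card_univ, card_addChar, hA]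
    simp
  set x : AddChar (Additive A) ℂ → ℤ := fun l => M l - ((q : ℤ) ^ 2 - q + 1) with hx
  have h6 : ∑ l, x l = -1 := by
    have : ∑ l, x l = ∑ l, M l - ((q : ℤ) ^ 2 - q + 1) * ∑ _l : AddChar (Additive A) ℂ, (1 : ℤ) := by
      rw [Finset.mul_sum, ← Finset.sum_sub_distrib]
      refine Finset.sum_congr rfl fun l _ => ?_
      rw [hx]; ring
    rw [this, h5, hcard]
    ring
  have h7 : ∑ l, x l ^ 2 = 1 := by
    have e1 : ∑ l, x l ^ 2 = ∑ l, M l ^ 2 - 2 * ((q : ℤ) ^ 2 - q + 1) * ∑ l, M l +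
        ((q : ℤ) ^ 2 - q + 1) ^ 2 * ∑ _l : AddChar (Additive A) ℂ, (1 : ℤ) := by
      rw [Finset.mul_sum, Finset.mul_sum, ← Finset.sum_sub_distrib, ← Finset.sum_add_distrib]
      refine Finset.sum_congr rfl fun l _ => ?_
      rw [hx]; ring
    have hq : ((q : ℤ) + 1) ≠ 0 := by positivity
    apply mul_left_cancel₀ hq
    rw [e1, h5, hcard]
    linear_combination h4
  -- exactly one `x l` is not zero
  obtain ⟨l₀, hl₀⟩ : ∃ l, x l ≠ 0 := by
    by_contra hcon
    push Not at hcon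
    rw [Finset.sum_eq_zero fun l _ => hcon l] at h6
    norm_num at h6
  have h8 : x l₀ ^ 2 + ∑ l ∈ Finset.univ.erase l₀, x l ^ 2 = 1 := by
    rw [Finset.add_sum_erase Finset.univ (fun l => x l ^ 2) (Finset.mem_univ _)]
    exact h7
  have h9 : 0 ≤ ∑ l ∈ Finset.univ.erase l₀, x l ^ 2 := Finset.sum_nonneg fun l _ => sq_nonneg _
  have h10 : 1 ≤ x l₀ ^ 2 := by
    have : 0 < x l₀ ^ 2 := by positivity
    omega
  have h11 : ∑ l ∈ Finset.univ.erase l₀, x l ^ 2 = 0 := by omega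
  have h12 : ∀ l, l ≠ l₀ → x l = 0 := by
    intro l hl
    have := (Finset.sum_eq_zero_iff_of_nonneg (fun l _ => sq_nonneg (x l))).1 h11 l
      (Finset.mem_erase.2 ⟨hl, Finset.mem_univ _⟩)
    exact pow_eq_zero_iff two_ne_zero |>.1 this
  have h13 : x l₀ = -1 := by
    rw [← h6, Finset.sum_eq_single l₀ (fun l _ hl => h12 l hl) (fun h => absurd (Finset.mem_univ _) h)]
  refine ⟨l₀, ?_, fun l hl => ?_⟩
  · have e : (finrank ℂ (wsp τ l₀) : ℤ) - ((q : ℤ) ^ 2 - q + 1) = -1 := h13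
    have e2 : (finrank ℂ (wsp τ l₀) : ℤ) + q = (q : ℤ) ^ 2 := by linear_combination e
    exact_mod_cast e2
  · have e : (finrank ℂ (wsp τ l) : ℤ) - ((q : ℤ) ^ 2 - q + 1) = 0 := h12 l hl
    have e2 : (finrank ℂ (wsp τ l) : ℤ) + q = (q : ℤ) ^ 2 + 1 := by linear_combination e
    exact_mod_cast e2

end Cfsg.Agent.H596.Weil
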