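import Cfsg.Agent.H596.Weil.Uni
import Cfsg.Agent.H644.T9.U3Orb
import Cfsg.Agent.H644.T9.U3Mat
import Cfsg.Agent.H644.T9.Tab
import Cfsg.Agent.Blocks.Deflate
import Cfsg.Agent.H424.DegTools

/-!
# Descent to `PSU 3 F q` and the row `PSU₃(q)` (helper596)
-/

set_option autoImplicit false

open scoped ComplexConjugate

namespace Cfsg.Agent.H596.Weil

open Module Cfsg Cfsg.Agent.Characters.Ito Cfsg.Agent.Characters.Core

universe u v

/-- central elements of order prime to the degree lie in the kernel, for perfect groups -/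
theorem trivial_of_coprime {G : Type u} [Group G] [Finite G] (hperf : commutator G = ⊤) {χ : G → ℂ}
    (hχ : IsIrrCharacter G χ) {d k : ℕ} (hd : χ 1 = d) (hk : Nat.Coprime d k) {z : G}
    (hz : z ∈ Subgroup.center G) (hzk : z ^ k = 1) : χ z = χ 1 := by
  obtain ⟨n, ρ, hρ, rfl⟩ := hχ
  have := Fintype.ofFinite G
  have hn : 0 < finrank ℂ (Fin n → ℂ) := finrank_pos_of_irreducible ρ
  rw [finrank_fin_fun] at hn
  have hnt : Nontrivial (Fin n → ℂ) := finrank_pos_iff (R := ℂ).1 (by rw [finrank_fin_fun]; exact hn)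
  have hdn : d = n := by
    have h1 : ρ.character 1 = (n : ℂ) := by rw [ρ.char_one, finrank_fin_fun]
    rw [h1] at hd
    exact (Nat.cast_injective hd).symm
  subst hdn
  obtain ⟨c, hc⟩ : ∃ c : ℂ, ρ z = c • (1 : Module.End ℂ (Fin d → ℂ)) :=
    ⟨_, schur ρ _ fun y => by rw [← map_mul, ← map_mul, (Subgroup.mem_center_iff.1 hz y).symm]⟩
  -- the determinant
  have hdet : ∀ g : G, LinearMap.det (ρ g) = 1 := by
    let f : G →* ℂˣ := (LinearMap.det.comp ρ).toHomUnits
    have hf : commutator G ≤ f.ker := Abelianization.commutator_subset_ker f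
    intro g
    have h1 : g ∈ f.ker := hf (by rw [hperf]; trivial)
    have h2 : f g = 1 := MonoidHom.mem_ker.1 h1
    have h3 := congrArg Units.val h2
    exact h3
  have h1 : c ^ d = 1 := by
    have h2 := hdet z
    rw [hc, LinearMap.det_smul, finrank_fin_fun] at h2
    have h5 : LinearMap.det (1 : Module.End ℂ (Fin d → ℂ)) = 1 := map_one _
    rw [h5, mul_one] at h2
    exact h2
  have h2 : c ^ k = 1 := by
    have h3 : ρ (z ^ k) = (c ^ k) • (1 : Module.End ℂ (Fin d → ℂ)) := by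
      rw [map_pow, hc, smul_pow, one_pow]
    rw [hzk, map_one] at h3
    have h4 : (1 : ℂ) • (1 : Module.End ℂ (Fin d → ℂ)) = (c ^ k) • 1 := by rw [one_smul]; exact h3
    exact (smul_left_injective ℂ (one_ne_zero (α := Module.End ℂ (Fin d → ℂ))) h4).symm
  have h3 : orderOf c ∣ 1 := by
    rw [← hk]
    exact Nat.dvd_gcd (orderOf_dvd_of_pow_eq_one h1) (orderOf_dvd_of_pow_eq_one h2)
  have h4 : c = 1 := orderOf_eq_one_iff.1 (Nat.dvd_one.1 h3)
  show LinearMap.trace ℂ _ (ρ z) = LinearMap.trace ℂ _ (ρ 1)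
  rw [hc, h4, one_smul, map_one ρ]

/-- **The degree `q ^ 2 - q` of `PSU 3 F q`.** -/
theorem mem_charDegrees_psu {F : Type} [Field F] [Fintype F] {q : ℕ} (hF : Fintype.card F = q ^ 2) (h2 : 2 < q)
    (hq : q % 3 = 2) : ∃ d, d ∈ charDegrees (PSU 3 F q) ∧ d + q = q ^ 2 := by
  classical
  obtain ⟨χ, hχ, d, hd, hdq⟩ := exists_irr hF (fun u v hu hv h => H644.T9.su_trans hF hu hv h)
  have hperf := LieClassical.HermPerfect.commutator_SU_eq_top (n := 3) hF le_rfl (fun h => by omega)
  have hcop : Nat.Coprime d 3 := by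
    rw [Nat.coprime_comm, Nat.Prime.coprime_iff_not_dvd Nat.prime_three]
    intro h3
    have h4 : (d + q) % 3 = q ^ 2 % 3 := by rw [hdq]
    rw [Nat.pow_mod, hq] at h4
    omega
  have hker : ∀ z ∈ Subgroup.center (SU 3 F q), χ z = χ 1 := by
    intro z hz
    refine trivial_of_coprime hperf hχ hd hcop hz ?_
    obtain ⟨c, hcn, hcq, rfl⟩ := (LieClassical.SUBasic.mem_center_SU_iff hF le_rfl z).1 hz
    have h4 : ∀ (k : ℕ) (v : Fin 3 → F), LieClassical.HermSiegel.act ((LieClassical.SUBasic.suScalar q c hcn hcq) ^ k) v =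
        c ^ k • v := by
      intro k
      induction k with
      | zero => intro v; rw [pow_zero, pow_zero, one_smul, LieClassical.HermSiegel.act_one]
      | succ k ih =>
        intro v
        rw [pow_succ, LieClassical.HermSiegel.act_mul, ih, pow_succ, mul_smul]
        congr 1
        rw [LieClassical.HermSiegel.act_def, LieClassical.HermSiegel.mat_def, LieClassical.SUBasic.coe_suScalar]
        funext i
        rw [Matrix.mulVec_diagonal, Pi.smul_apply, smul_eq_mul]
    apply LieClassical.HermSiegel.ext_act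
    intro v
    rw [h4, hcn, one_smul, LieClassical.HermSiegel.act_one]
  have : Fintype (Subgroup.center (SU 3 F q)) := Fintype.ofFinite _
  obtain ⟨χ', hχ'⟩ := Blocks.Deflate.exists_deflation (Subgroup.center (SU 3 F q)) χ hχ (by
    rw [Finset.sum_congr rfl fun (n : Subgroup.center (SU 3 F q)) _ => hker n n.2, Finset.sum_const, nsmul_eq_mul]
    refine mul_ne_zero ?_ (isIrr_apply_one_ne_zero hχ)
    exact Nat.cast_ne_zero.2 (Finset.card_ne_zero.2 ⟨1, Finset.mem_univ _⟩))
  refine ⟨d, ?_, hdq⟩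
  rw [H424.DegTools.mem_charDegrees]
  refine ⟨χ', χ'.2, ?_⟩
  rw [← hd, hχ']
  rfl

/-- **The row `PSU₃(q)`.** -/
theorem qrow_psu (X : Type u) [Group X] [Finite X] (h : H644.T9.IsU X) : H629.T9.QRow X := by
  obtain ⟨F, _, _, q, hF, h2, hq, ⟨e⟩⟩ := h
  refine H644.T9.qrow_psu_of hF hq e ?_
  obtain ⟨d, hd, hdq⟩ := mem_charDegrees_psu hF h2 (by omega)
  rw [← H424.DegTools.charDegrees_congr e] at hd
  obtain ⟨θ, hθ⟩ := hd
  refine ⟨θ, Or.inl ?_⟩
  rw [hθ]
  have h4 : (d + q) % 9 = q ^ 2 % 9 := by rw [hdq]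
  rw [Nat.pow_mod] at h4
  rcases hq with h | h <;> rw [h] at h4 <;> omega

end Cfsg.Agent.H596.Weil
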