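import Cfsg.Agent.H596.Weil.Mult
import Cfsg.Agent.Characters.Core

/-!
# The Weil representation, abstract form (helper596)
-/

set_option autoImplicit false

open scoped ComplexConjugate

namespace Cfsg.Agent.H596.Weil

open Module Cfsg Cfsg.Agent.Characters.Ito Cfsg.Agent.Characters.Core

universe u

section tau

variable {E : Type*} [Group E] [Fintype E] {V : Type*} [AddCommGroup V] [Module ℂ V] [FiniteDimensional ℂ V]
  (ρ : Representation ℂ E V) {A : Type*} [CommGroup A] [Fintype A]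

/-- a cyclic group of automorphisms lifts to a representation -/
theorem exists_tau [ρ.IsIrreducible] [IsCyclic A] (α : A →* MulAut E) (hα : ∀ a, Good ρ (α a)) :
    ∃ τ : Representation ℂ A V, ∀ a y, τ a * ρ y = ρ (α a y) * τ a := by
  obtain ⟨a, ha⟩ := IsCyclic.exists_generator (α := A)
  have hpow : ∀ (n : ℕ) (y : E), W ρ (α a) ^ n * ρ y = ρ ((α (a ^ n)) y) * W ρ (α a) ^ n := by
    intro n
    induction n with
    | zero => intro y; simp
    | succ n ih =>
      intro y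
      rw [pow_succ', mul_assoc, ih, ← mul_assoc, W_mul_rho, mul_assoc, pow_succ' a n, map_mul]
      rfl
  have hu := isUnit_W ρ (hα a)
  obtain ⟨κ, hκ⟩ : ∃ κ : ℂ, W ρ (α a) ^ orderOf a = κ • (1 : Module.End ℂ V) :=
    ⟨_, schur ρ _ fun y => by rw [hpow, pow_orderOf_eq_one, map_one, MulAut.one_apply]⟩
  have hκ0 : κ ≠ 0 := by
    rintro rfl
    rw [zero_smul] at hκ
    have h1 := hu.pow (orderOf a)
    rw [hκ] at h1
    have : Nontrivial V := finrank_pos_iff.1 (finrank_pos_of_irreducible ρ)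
    exact not_isUnit_zero h1
  have hpos : 0 < orderOf a := orderOf_pos a
  obtain ⟨μ, hμ⟩ := IsAlgClosed.exists_pow_nat_eq κ⁻¹ hpos
  have hμ0 : μ ≠ 0 := by
    rintro rfl
    rw [zero_pow hpos.ne'] at hμ
    exact inv_ne_zero hκ0 hμ.symm
  have hR : (μ • W ρ (α a)) ^ orderOf a = 1 := by
    rw [smul_pow, hμ, hκ, smul_smul, inv_mul_cancel₀ hκ0, one_smul]
  have hRu : IsUnit (μ • W ρ (α a)) := IsUnit.of_pow_eq_one hR hpos.ne'
  obtain ⟨R, hR'⟩ := hRu
  have hRo : orderOf R ∣ orderOf a := by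
    rw [orderOf_dvd_iff_pow_eq_one]
    apply Units.ext
    rw [Units.val_pow_eq_pow_val, hR', hR, Units.val_one]
  refine ⟨(Units.coeHom _).comp (monoidHomOfForallMemZpowers ha hRo), fun b y => ?_⟩
  obtain ⟨n, hn⟩ := mem_powers_iff_mem_zpowers.2 (ha b)
  have hn' : a ^ n = b := hn
  have e : ((Units.coeHom (Module.End ℂ V)).comp (monoidHomOfForallMemZpowers ha hRo)) b = μ ^ n • W ρ (α a) ^ n := by
    rw [← hn', map_pow, MonoidHom.comp_apply, monoidHomOfForallMemZpowers_apply_gen, Units.coeHom_apply, hR', smul_pow]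
  rw [e, smul_mul_assoc, mul_smul_comm, hpow, hn']

theorem tau_eq [ρ.IsIrreducible] (α : A →* MulAut E) (hα : ∀ a, Good ρ (α a)) {τ : Representation ℂ A V}
    (hτ : ∀ a y, τ a * ρ y = ρ (α a y) * τ a) (a : A) : ∃ c : ℂ, τ a = c • W ρ (α a) :=
  eq_smul_W ρ (hα a) (hτ a)

/-- the product of the traces at `a` and `a⁻¹` -/
theorem trace_mul_trace {H : Type*} [Group H] [ρ.IsIrreducible] (β : H →* MulAut E) (hβ : ∀ a, Good ρ (β a))
    {ω : Representation ℂ H V} (hω : ∀ a, ∃ c : ℂ, ω a = c • W ρ (β a)) (a : H) :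
    (Fintype.card E : ℂ) * (LinearMap.trace ℂ V (ω a) * LinearMap.trace ℂ V (ω a⁻¹)) =
      (finrank ℂ V : ℂ) ^ 2 * fx (β a) := by
  obtain ⟨c, hc⟩ := hω a
  obtain ⟨d, hd⟩ := hω a⁻¹
  rw [map_inv β] at hd
  have h1 : ω a * ω a⁻¹ = 1 := by rw [← map_mul, mul_inv_cancel, map_one]
  rw [hc, hd, smul_mul_smul_comm, W_mul_W_inv ρ (hβ a), smul_smul] at h1
  have hn : (finrank ℂ V : ℂ) ≠ 0 := Nat.cast_ne_zero.2 (finrank_pos_of_irreducible ρ).ne'
  have h2 := congrArg (LinearMap.trace ℂ V) h1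
  rw [map_smul, LinearMap.trace_one, smul_eq_mul] at h2
  have h3 : c * d * ((Fintype.card E : ℂ) * fx (β a)) = 1 := by
    apply mul_right_cancel₀ hn
    rw [h2, one_mul]
  rw [hc, hd, map_smul, map_smul, trace_W ρ (hβ a), trace_W ρ (hβ a).inv, fx_inv, smul_eq_mul, smul_eq_mul]
  linear_combination ((finrank ℂ V : ℂ) ^ 2 * fx (β a)) * h3

end tau

section main

variable {E : Type*} [Group E] [Fintype E] {V : Type*} [AddCommGroup V] [Module ℂ V] [FiniteDimensional ℂ V]
  (ρ : Representation ℂ E V) {A : Type*} [CommGroup A] [Fintype A] {G : Type u} [Group G]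

/-- weight spaces are invariant under commuting operators -/
theorem mem_wsp_of_comm (τ : Representation ℂ A V) {f : Module.End ℂ V} (hf : ∀ a, f * τ a = τ a * f)
    (l : AddChar (Additive A) ℂ) : ∀ x ∈ wsp τ l, f x ∈ wsp τ l := by
  rintro _ ⟨x, rfl⟩
  have h1 : f * wt τ l = wt τ l * f := by
    rw [wt_def, mul_smul_comm, smul_mul_assoc, Finset.mul_sum, Finset.sum_mul]
    congr 1
    refine Finset.sum_congr rfl fun a _ => ?_
    rw [mul_smul_comm, smul_mul_assoc, hf]
  exact ⟨f x, (DFunLike.congr_fun h1 x).symm⟩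

theorem comm_wt (τ : Representation ℂ A V) {f : Module.End ℂ V} (hf : ∀ a, f * τ a = τ a * f)
    (l : AddChar (Additive A) ℂ) : f * wt τ l = wt τ l * f := by
  rw [wt_def, mul_smul_comm, smul_mul_assoc, Finset.mul_sum, Finset.sum_mul]
  congr 1
  refine Finset.sum_congr rfl fun a _ => ?_
  rw [mul_smul_comm, smul_mul_assoc, hf]

/-- the trace on a weight space is a character -/
theorem isCharacter_wt (τ : Representation ℂ A V) (ω : Representation ℂ G V)
    (hc : ∀ g a, ω g * τ a = τ a * ω g) (l : AddChar (Additive A) ℂ) :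
    IsCharacter G (fun g => LinearMap.trace ℂ V (ω g * wt τ l)) := by
  let σ : Representation ℂ G (wsp τ l) :=
    { toFun := fun g => (ω g).restrict (mem_wsp_of_comm τ (hc g) l)
      map_one' := by
        ext x
        show ω 1 (x : V) = x
        rw [map_one]; rfl
      map_mul' := by
        intro g h
        ext x
        show ω (g * h) (x : V) = ω g (ω h x)
        rw [map_mul]; rfl }
  have h1 := isCharacter_of_rep σ
  convert h1 using 1
  funext g
  -- trace of the restriction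
  let π : V →ₗ[ℂ] wsp τ l := (wt τ l).rangeRestrict
  let ι : wsp τ l →ₗ[ℂ] V := (wsp τ l).subtype
  have e1 : ω g * wt τ l = (ω g ∘ₗ ι) ∘ₗ π := rfl
  have e2 : σ g = π ∘ₗ (ω g ∘ₗ ι) := by
    ext x
    obtain ⟨y, hy⟩ := x.2
    show ω g (x : V) = wt τ l (ω g x)
    rw [← hy]
    have h2 := comm_wt τ (hc g) l
    have h3 := DFunLike.congr_fun h2 (wt τ l y)
    have h4 : wt τ l (wt τ l y) = wt τ l y := DFunLike.congr_fun (wt_idem τ l) y
    have h5 : ω g (wt τ l (wt τ l y)) = wt τ l (ω g (wt τ l y)) := h3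
    rw [h4] at h5
    exact h5
  show LinearMap.trace ℂ V (ω g * wt τ l) = LinearMap.trace ℂ _ (σ g)
  rw [e1, e2, LinearMap.trace_comp_comm']

/-- **The abstract Weil representation.** -/
theorem exists_omega [ρ.IsIrreducible] (α : A →* MulAut E) (hα : ∀ a, Good ρ (α a)) (β : G →* MulAut E)
    (hβ : ∀ g, Good ρ (β g)) (hαβ : ∀ a g, α a * β g = β g * α a) {τ : Representation ℂ A V}
    (hτ : ∀ a y, τ a * ρ y = ρ (α a y) * τ a) {l m : AddChar (Additive A) ℂ}
    (hlm : finrank ℂ (wsp τ m) = finrank ℂ (wsp τ l) + 1) :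
    ∃ ω : Representation ℂ G V, (∀ g, ∃ c : ℂ, ω g = c • W ρ (β g)) ∧ ∀ g a, ω g * τ a = τ a * ω g := by
  have hcomm : ∀ g a, W ρ (β g) * τ a = τ a * W ρ (β g) := by
    intro g a
    obtain ⟨c, hc⟩ := tau_eq ρ α hα hτ a
    rw [hc, smul_mul_assoc, mul_smul_comm, W_conj ρ _ _ (hαβ a g)]
  obtain ⟨r, hr0, hr⟩ := exists_norm (fun g => W ρ (β g)) (fun g => isUnit_W ρ (hβ g))
    (fun g h => by
      obtain ⟨c, hc0, hc⟩ := exists_cocycle ρ (hβ g) (hβ h) (by rw [← map_mul]; exact hβ _)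
      exact ⟨c, hc0, by rw [hc, map_mul]⟩)
    (wsp τ l) (wsp τ m) (fun g => mem_wsp_of_comm τ (hcomm g) l) (fun g => mem_wsp_of_comm τ (hcomm g) m) hlm
  have h1 : r 1 • W ρ (β 1) = 1 := by
    have h2 := hr 1 1
    rw [mul_one] at h2
    have h3 : IsUnit (r 1 • W ρ (β 1)) := (isUnit_W ρ (hβ 1)).smul (Units.mk0 (r 1) (hr0 1))
    exact (h3.mul_eq_left).1 h2
  refine ⟨{ toFun := fun g => r g • W ρ (β g)
            map_one' := h1
            map_mul' := fun g h => (hr g h).symm }, fun g => ⟨r g, rfl⟩, fun g a => ?_⟩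
  show r g • W ρ (β g) * τ a = τ a * (r g • W ρ (β g))
  rw [smul_mul_assoc, mul_smul_comm, hcomm]

end main

end Cfsg.Agent.H596.Weil
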