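import Cfsg.Agent.H596.Weil.Heis
import Cfsg.Agent.LieClassical.HermPerfect

/-!
# The Weil character of `SU 3 F q` of degree `q ^ 2 - q` (helper596)
-/

set_option autoImplicit false

open scoped ComplexConjugate

namespace Cfsg.Agent.H596.Weil

open Module Cfsg Cfsg.Agent.Characters.Ito Cfsg.Agent.Characters.Core
open Cfsg.Agent.LieClassical.HermBasic Cfsg.Agent.LieClassical.HermSiegel

section

variable {F : Type} [Field F] [Fintype F] {q : ℕ}

/-- the form as a biadditive map -/
def hb (hF : Fintype.card F = q ^ 2) : (Fin 3 → F) →+ (Fin 3 → F) →+ F where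
  toFun v :=
    { toFun := fun w => hermForm 3 F q v w
      map_zero' := herm_zero_right hF v
      map_add' := herm_add_right hF v }
  map_zero' := AddMonoidHom.ext fun w => herm_zero_left w
  map_add' v v' := AddMonoidHom.ext fun w => herm_add_left v v' w

theorem hb_apply (hF : Fintype.card F = q ^ 2) (v w : Fin 3 → F) : hb hF v w = hermForm 3 F q v w := rfl

/-- the group of norm one scalars -/
abbrev Nm (F : Type) [Field F] (q : ℕ) : Subgroup Fˣ := (powMonoidHom (q + 1) : Fˣ →* Fˣ).ker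

theorem card_Nm (hF : Fintype.card F = q ^ 2) : Nat.card (Nm F q) = q + 1 := by
  rw [IsCyclic.card_powMonoidHom_ker, card_units_eq hF]
  exact Nat.gcd_eq_right (Dvd.intro _ rfl)

theorem hb_Nm (hF : Fintype.card F = q ^ 2) (c : Nm F q) (v w : Fin 3 → F) :
    hb hF (c • v) (c • w) = hb hF v w := by
  have h1 : ((c : Fˣ) : F) ^ (q + 1) = 1 := by
    have h2 := c.2
    rw [MonoidHom.mem_ker, powMonoidHom_apply] at h2
    rw [← Units.val_pow_eq_pow_val, h2, Units.val_one]
  have e : ∀ x : Fin 3 → F, c • x = ((c : Fˣ) : F) • x := fun x => rfl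
  rw [hb_apply, hb_apply, e, e, herm_smul_left, herm_smul_right, ← mul_assoc, ← pow_succ', h1, one_mul]

/-- the action of `SU` on vectors -/
@[reducible] def suAction (F : Type) [Field F] (q : ℕ) : DistribMulAction (SU 3 F q) (Fin 3 → F) where
  smul g v := act g v
  one_smul v := act_one v
  mul_smul g h v := act_mul g h v
  smul_zero g := act_zero g
  smul_add g v w := act_add g v w

attribute [local instance] suAction

omit [Fintype F] in
theorem su_smul (g : SU 3 F q) (v : Fin 3 → F) : g • v = act g v := rfl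

theorem hb_su (hF : Fintype.card F = q ^ 2) (g : SU 3 F q) (v w : Fin 3 → F) :
    hb hF (g • v) (g • w) = hb hF v w := herm_act g v w

/-- an additive character of `F` not invariant under conjugation: the commutator form is nondegenerate -/
theorem exists_lam (hF : Fintype.card F = q ^ 2) : ∃ l : AddChar F ℂ, ∀ v : Fin 3 → F, v ≠ 0 →
    ∃ w, l (hb hF w v - hb hF v w) ≠ 1 := by
  obtain ⟨x, hx⟩ := exists_not_fixed hF
  have hx0 : x - x ^ q ≠ 0 := sub_ne_zero.2 (Ne.symm hx)
  obtain ⟨l, hl⟩ := AddChar.exists_apply_ne_zero.2 hx0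
  refine ⟨l, fun v hv => ?_⟩
  obtain ⟨w, hw⟩ := exists_herm_ne_zero hF hv
  -- `w` with `h v w ≠ 0`; scale
  have hsw : hermForm 3 F q w v ≠ 0 := by
    intro h0
    exact hw (herm_eq_zero_swap hF h0)
  refine ⟨(x / hermForm 3 F q w v) • w, ?_⟩
  have h1 : hermForm 3 F q ((x / hermForm 3 F q w v) • w) v = x := by
    rw [herm_smul_left, div_mul_cancel₀ _ hsw]
  have h2 : hermForm 3 F q v ((x / hermForm 3 F q w v) • w) = x ^ q := by
    rw [herm_swap hF, h1]
  rw [hb_apply, hb_apply, h1, h2]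
  exact hl

/-- the number of orbits of `SU 3 F q` on vectors -/
theorem orbits_le (hF : Fintype.card F = q ^ 2)
    (htr : ∀ u v : Fin 3 → F, u ≠ 0 → v ≠ 0 → hermForm 3 F q u u = hermForm 3 F q v v → ∃ g : SU 3 F q, act g u = v) :
    Nat.card (Quotient (MulAction.orbitRel (SU 3 F q) (Fin 3 → F))) ≤ q + 1 := by
  classical
  have hself : ∀ v : Fin 3 → F, hermForm 3 F q v v ^ q = hermForm 3 F q v v := fun v => (herm_self_pow hF v)
  have h1 : Nat.card (Option {x : F // x ^ q = x}) = q + 1 := by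
    rw [Finite.card_option, card_fixed hF]
  rw [← h1]
  have key : ∀ u v : Fin 3 → F, (u = 0 ↔ v = 0) → hermForm 3 F q u u = hermForm 3 F q v v →
      (MulAction.orbitRel (SU 3 F q) (Fin 3 → F)) u v := by
    intro u v h0 huv
    rw [MulAction.orbitRel_apply, MulAction.mem_orbit_iff]
    by_cases hu : u = 0
    · rw [hu, h0.1 hu]
      exact ⟨1, one_smul _ _⟩
    · have hv : v ≠ 0 := fun h => hu (h0.2 h)
      obtain ⟨g, hg⟩ := htr v u hv hu huv.symm
      exact ⟨g, hg⟩
  have hact0 : ∀ (g : SU 3 F q) (v : Fin 3 → F), g • v = 0 ↔ v = 0 := fun g v => act_eq_zero g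
  refine Nat.card_le_card_of_injective
    (Quotient.lift (fun v : Fin 3 → F => if v = 0 then (none : Option {x : F // x ^ q = x})
      else some ⟨hermForm 3 F q v v, hself v⟩) ?_) ?_
  · rintro u v huv
    have huv' : (MulAction.orbitRel (SU 3 F q) (Fin 3 → F)) u v := huv
    rw [MulAction.orbitRel_apply, MulAction.mem_orbit_iff] at huv'
    obtain ⟨g, rfl⟩ := huv'
    have h2 : hermForm 3 F q (g • v) (g • v) = hermForm 3 F q v v := herm_act g v v
    show (if g • v = 0 then (none : Option {x : F // x ^ q = x})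
      else some ⟨hermForm 3 F q (g • v) (g • v), hself (g • v)⟩) = (if v = 0 then (none : Option {x : F // x ^ q = x})
      else some ⟨hermForm 3 F q v v, hself v⟩)
    by_cases hv0 : v = 0
    · rw [if_pos ((hact0 g v).2 hv0), if_pos hv0]
    · rw [if_neg (fun h' => hv0 ((hact0 g v).1 h')), if_neg hv0]
      exact congrArg some (Subtype.ext h2)
  · rintro ⟨u⟩ ⟨v⟩ huv
    apply Quotient.sound
    have huv' : (if u = 0 then (none : Option {x : F // x ^ q = x})
      else some ⟨hermForm 3 F q u u, hself u⟩) = (if v = 0 then (none : Option {x : F // x ^ q = x})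
      else some ⟨hermForm 3 F q v v, hself v⟩) := huv
    by_cases hu : u = 0
    · by_cases hv : v = 0
      · exact key u v (by simp [hu, hv]) (by rw [hu, hv])
      · rw [if_pos hu, if_neg hv] at huv'
        cases huv'
    · by_cases hv : v = 0
      · rw [if_neg hu, if_pos hv] at huv'
        cases huv'
      · rw [if_neg hu, if_neg hv] at huv'
        exact key u v (by simp [hu, hv]) (congrArg Subtype.val (Option.some.inj huv'))

/-- **The Weil character of degree `q ^ 2 - q`.** -/
theorem exists_irr (hF : Fintype.card F = q ^ 2)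
    (htr : ∀ u v : Fin 3 → F, u ≠ 0 → v ≠ 0 → hermForm 3 F q u u = hermForm 3 F q v v → ∃ g : SU 3 F q, act g u = v) :
    ∃ χ : SU 3 F q → ℂ, IsIrrCharacter (SU 3 F q) χ ∧ ∃ d : ℕ, χ 1 = d ∧ d + q = q ^ 2 := by
  classical
  have hq2 := two_le hF
  obtain ⟨l, hl⟩ := exists_lam hF
  obtain ⟨n, ρ, hρ, hv, hn⟩ := exists_rho (hb hF) l hl
  have := hρ
  have hcV : Fintype.card (Fin 3 → F) = (q ^ 3) ^ 2 := by
    rw [Fintype.card_fun, Fintype.card_fin, hF]
    ring
  have hn3 : n = q ^ 3 := by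
    rw [hcV] at hn
    exact Nat.pow_left_injective (by norm_num : 2 ≠ 0) hn
  have : Fintype (Nm F q) := Fintype.ofFinite _
  have hA : Fintype.card (Nm F q) = q + 1 := by rw [← Nat.card_eq_fintype_card, card_Nm hF]
  set α := Hs.aut (hb hF) (hb_Nm hF) with hα
  set β := Hs.aut (hb hF) (hb_su hF) with hβ
  have hαg : ∀ a, Good ρ (α a) := fun a => good_aut hv (hb_Nm hF) a
  have hβg : ∀ a, Good ρ (β a) := fun a => good_aut hv (hb_su hF) a
  have hαβ : ∀ a g, α a * β g = β g * α a := by
    intro a g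
    ext x
    · show (a • (g • x.v)) _ = (g • (a • x.v)) _
      have e : ∀ x : Fin 3 → F, a • x = ((a : Fˣ) : F) • x := fun x => rfl
      rw [e, e, su_smul, su_smul, act_smul]
    · rfl
  obtain ⟨τ, hτ⟩ := exists_tau ρ α hαg
  have hτW : ∀ a, ∃ c : ℂ, τ a = c • W ρ (α a) := fun a => tau_eq ρ α hαg hτ a
  have htrA : ∀ a : Nm F q, a ≠ 1 → LinearMap.trace ℂ _ (τ a) * LinearMap.trace ℂ _ (τ a⁻¹) = 1 := by
    intro a ha
    rw [trace_mul_trace_eq hv hn (hb_Nm hF) hτW a]
    have h1 : Nat.card {v : Fin 3 → F // a • v = v} = 1 := by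
      rw [Nat.card_eq_one_iff_unique]
      refine ⟨⟨fun x y => ?_⟩, ⟨⟨0, smul_zero a⟩⟩⟩
      have h2 : ∀ x : {v : Fin 3 → F // a • v = v}, x.1 = 0 := by
        rintro ⟨x, hx⟩
        have e : a • x = ((a : Fˣ) : F) • x := rfl
        rw [e] at hx
        have h3 : (((a : Fˣ) : F) - 1) • x = 0 := by rw [sub_smul, one_smul, hx, sub_self]
        rcases smul_eq_zero.1 h3 with h4 | h4
        · exact absurd (Subtype.ext (Units.ext (sub_eq_zero.1 h4))) ha
        · exact h4
      exact Subtype.ext ((h2 x).trans (h2 y).symm)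
    rw [h1, Nat.cast_one]
  obtain ⟨l₀, hl₀, hls⟩ := exists_dims τ hA (by rw [finrank_fin_fun]; exact hn3) htrA
  obtain ⟨m, hm⟩ : ∃ m : AddChar (Additive (Nm F q)) ℂ, m ≠ l₀ := by
    have h1 : 1 < Fintype.card (AddChar (Additive (Nm F q)) ℂ) := by
      rw [card_addChar, hA]
      omega
    exact Fintype.exists_ne_of_one_lt_card h1 l₀
  have hlm : finrank ℂ (wsp τ m) = finrank ℂ (wsp τ l₀) + 1 := by
    have := hls m hm
    omega
  obtain ⟨ω, hω, hωτ⟩ := exists_omega ρ α hαg β hβg hαβ hτ hlm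
  have hsq : q + 1 ≤ q ^ 2 := by nlinarith
  have hpos : ∀ l, 0 < finrank ℂ (wsp τ l) := by
    intro l
    by_cases h : l = l₀
    · subst h; omega
    · have := hls l h
      omega
  -- the norm of the trace of `ω`
  have : Fintype (SU 3 F q) := Fintype.ofFinite _
  have hN : classInner (fun g => LinearMap.trace ℂ _ (ω g)) (fun g => LinearMap.trace ℂ _ (ω g)) =
      (Nat.card (Quotient (MulAction.orbitRel (SU 3 F q) (Fin 3 → F))) : ℂ) := by
    have h1 : ∀ g, LinearMap.trace ℂ _ (ω g) * conj (LinearMap.trace ℂ _ (ω g)) =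
        (Fintype.card (MulAction.fixedBy (Fin 3 → F) g) : ℂ) := by
      intro g
      have h2 : conj (LinearMap.trace ℂ _ (ω g)) = LinearMap.trace ℂ _ (ω g⁻¹) := (S0158.char_inv ω g).symm
      rw [h2, trace_mul_trace_eq hv hn (hb_su hF) hω g, ← Nat.card_eq_fintype_card]
      rfl
    have h2 := MulAction.sum_card_fixedBy_eq_card_orbits_mul_card_group (SU 3 F q) (Fin 3 → F)
    rw [classInner_def, Finset.sum_congr rfl fun g _ => h1 g]
    have h3 : (∑ g : SU 3 F q, (Fintype.card (MulAction.fixedBy (Fin 3 → F) g) : ℂ)) =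
        (Fintype.card (Quotient (MulAction.orbitRel (SU 3 F q) (Fin 3 → F))) : ℂ) * Fintype.card (SU 3 F q) := by
      exact_mod_cast h2
    rw [h3, Nat.card_eq_fintype_card, Nat.card_eq_fintype_card]
    have h4 : (Fintype.card (SU 3 F q) : ℂ) ≠ 0 := Nat.cast_ne_zero.2 Fintype.card_ne_zero
    field_simp
  refine ⟨_, isIrr_wt τ ω hωτ hpos (by rw [hA]; exact orbits_le hF htr) hN l₀, finrank ℂ (wsp τ l₀), ?_, hl₀⟩
  show LinearMap.trace ℂ _ (ω 1 * wt τ l₀) = _
  rw [map_one, one_mul, trace_wt]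

end

end Cfsg.Agent.H596.Weil
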